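import Groth.Agent.DevLib.Apps
import Groth.Agent.IntLib.Push
import Groth.Agent.CurveLib.Euler
import Groth.Agent.FlatBC.Scheme
import Groth.Agent.EtAlgEasy.PrinPartFlat
import Groth.Agent.FinCovLib.Cover
import Groth.Agent.S12131
import Groth.Agent.PullbackMod.LimStalk
import Groth.Agent.PullbackMod.FibreRank
import Groth.Agent.QCohLib.Push
import Groth.Prelude.Def_CurvBase

/-!
Multiplicativity of the Euler characteristic along a finite flat morphism which becomes trivial after a
finite flat surjective base change.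
-/

set_option autoImplicit false
set_option backward.isDefEq.respectTransparency false
set_option maxHeartbeats 1000000
set_option linter.style.haveILetI false
set_option linter.unusedSectionVars false

universe u

open CategoryTheory CategoryTheory.Limits AlgebraicGeometry TopologicalSpace Opposite
open Groth.Agent.PullbackMod Groth.Agent.DevLib Groth.Agent.QCohLib Groth.Agent.DCohLib

noncomputable section

namespace Groth.Agent.EulerPullLib

section Generic

variable {Y : Scheme.{u}}

/-- Additivity on coherent modules. -/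
def Additive (ψ : Y.Modules → ℤ) : Prop :=
  ∀ S : ShortComplex Y.Modules, S.ShortExact → Coh.IsCoh S.X₁ → Coh.IsCoh S.X₂ → Coh.IsCoh S.X₃ →
    ψ S.X₂ = ψ S.X₁ + ψ S.X₃

variable {ψ : Y.Modules → ℤ} (hadd : Additive ψ) (hiso : ∀ M N : Y.Modules, Nonempty (M ≅ N) → ψ M = ψ N)

include hadd in
theorem eq_of_common [IsLocallyNoetherian Y] {ξ : Y} {Q G : Y.Modules} (hQ : IsPiece ξ Q) (hG : IsPiece ξ G)
    (hsm : SmallerOK (fun M => ψ M = 0) ξ) : ψ Q = ψ G := by
  obtain ⟨H, p, q, hH, hp, hq, hps, hqs⟩ := exists_common hQ hG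
  have hcp := (isCoh_kernel_cokernel p hH hQ.coh).2
  have hcq := (isCoh_kernel_cokernel q hH hG.coh).2
  have h1 := hadd (cokerSeq p) (cokerSeq_shortExact p) hH hQ.coh hcp
  have h2 := hadd (cokerSeq q) (cokerSeq_shortExact q) hH hG.coh hcq
  have hp0 : ψ (cokernel p) = 0 := hsm _ hcp (supp_coker p hQ.supp) (notMem_support_coker p hps)
  have hq0 : ψ (cokernel q) = 0 := hsm _ hcq (supp_coker q hG.supp) (notMem_support_coker q hqs)
  change ψ Q = ψ H + ψ (cokernel p) at h1
  change ψ G = ψ H + ψ (cokernel q) at h2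
  omega

include hadd hiso in
theorem eq_zero_of_isZero [IsLocallyNoetherian Y] {M : Y.Modules} (hM : IsZero M) (hc : Coh.IsCoh M) : ψ M = 0 := by
  let S := ShortComplex.mk (0 : M ⟶ M) (𝟙 M) (zero_comp)
  haveI : Mono S.f := ⟨fun a b _ => hM.eq_of_tgt a b⟩
  haveI : Epi S.g := inferInstanceAs (Epi (𝟙 M))
  have hS : S.ShortExact :=
    { exact := ShortComplex.exact_of_isZero_X₂ S hM }
  have := hadd S hS hc hc hc
  change ψ M = ψ M + ψ M at this
  omega

/-- The rank of the stalk at a point. -/
def gRank (ξ : Y) (M : Y.Modules) : ℕ := Module.finrank (Y.presheaf.stalk ξ) (M.presheaf.stalk ξ)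

theorem gRank_shortExact [IsIntegral Y] [IsLocallyNoetherian Y] {S : ShortComplex Y.Modules} (hS : S.ShortExact)
    (h₁ : Coh.IsCoh S.X₁) (h₂ : Coh.IsCoh S.X₂) :
    gRank (genericPoint Y) S.X₂ = gRank (genericPoint Y) S.X₁ + gRank (genericPoint Y) S.X₃ := by
  let K := Y.functionField
  haveI := h₁.1
  haveI := h₂.1
  haveI := finite_stalk_of_isFT h₁.2 (genericPoint Y)
  haveI := finite_stalk_of_isFT h₂.2 (genericPoint Y)
  have hinj := DevLib.stalk_injective hS (genericPoint Y)
  have hsurj := DevLib.stalk_surjective hS (genericPoint Y)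
  have hex := DevLib.stalk_exact hS (genericPoint Y)
  letI : Module K (S.X₁.presheaf.stalk (genericPoint Y)) :=
    inferInstanceAs (Module (Y.presheaf.stalk (genericPoint Y)) (S.X₁.presheaf.stalk (genericPoint Y)))
  letI : Module K (S.X₂.presheaf.stalk (genericPoint Y)) :=
    inferInstanceAs (Module (Y.presheaf.stalk (genericPoint Y)) (S.X₂.presheaf.stalk (genericPoint Y)))
  letI : Module K (S.X₃.presheaf.stalk (genericPoint Y)) :=
    inferInstanceAs (Module (Y.presheaf.stalk (genericPoint Y)) (S.X₃.presheaf.stalk (genericPoint Y)))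
  haveI : Module.Finite K (S.X₂.presheaf.stalk (genericPoint Y)) :=
    inferInstanceAs (Module.Finite (Y.presheaf.stalk (genericPoint Y)) (S.X₂.presheaf.stalk (genericPoint Y)))
  let f : S.X₁.presheaf.stalk (genericPoint Y) →ₗ[K] S.X₂.presheaf.stalk (genericPoint Y) :=
    stalkLin S.f (genericPoint Y)
  let g : S.X₂.presheaf.stalk (genericPoint Y) →ₗ[K] S.X₃.presheaf.stalk (genericPoint Y) :=
    stalkLin S.g (genericPoint Y)
  have h := g.finrank_range_add_finrank_ker
  rw [LinearMap.range_eq_top.2 (show Function.Surjective g from hsurj), finrank_top,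
    show LinearMap.ker g = LinearMap.range f from LinearMap.exact_iff.1 hex,
    LinearMap.finrank_range_of_inj (show Function.Injective f from hinj), add_comm] at h
  exact h.symm

theorem gRank_eq_zero {ξ : Y} {M : Y.Modules} (h : ξ ∉ CohB1.support M) : gRank ξ M = 0 := by
  haveI := subsingleton_of_notMem h
  exact Module.finrank_zero_of_subsingleton

include hadd hiso in
/-- An additive function vanishing below the generic point is a multiple of the generic rank. -/
theorem eq_rank_mul [IsIntegral Y] [IsNoetherian Y]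
    (hsm : SmallerOK (fun M => ψ M = 0) (genericPoint Y)) {M : Y.Modules} (hM : Coh.IsCoh M) :
    ψ M = gRank (genericPoint Y) M * ψ (Coh.structureModule Y) := by
  obtain ⟨hc⟩ : Nonempty ((Scheme.Modules.pushforward (𝟙 Y)).obj (Coh.structureModule Y) ≅ Coh.structureModule Y) :=
    ⟨(Scheme.Modules.pushforwardId Y).app _⟩
  refine devissage Set.univ (fun N => Coh.IsCoh N → ψ N = gRank (genericPoint Y) N * ψ (Coh.structureModule Y))
    (fun N N' e hN hN' => ?_) (fun N hN hN' => ?_) (fun S hS h1 h2 h3 _ hp1 hp3 _ => ?_)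
    (fun ξ _ _ Q hQ hsmξ _ => ?_) M hM (Set.subset_univ _) hM
  · obtain ⟨e⟩ := e
    rw [← hiso N N' ⟨e⟩, hN (Groth.Agent.ProjCoh.isCoh_of_iso e.symm hN')]
    congr 2
    exact LinearEquiv.finrank_eq (LinearEquiv.ofBijective (stalkLin e.hom (genericPoint Y))
      ((isIso_iff_stalk e.hom).1 inferInstance _))
  · rw [eq_zero_of_isZero hadd hiso hN hN', gRank_eq_zero, Nat.cast_zero, zero_mul]
    intro h
    exact h ⟨fun a b => by
      have h0 := (eq_zero_iff_stalk (𝟙 N)).1 (hN.eq_of_src _ _) (genericPoint Y)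
      rw [stalkLin_id] at h0
      rw [← LinearMap.id_apply (R := Y.presheaf.stalk (genericPoint Y)) a,
        ← LinearMap.id_apply (R := Y.presheaf.stalk (genericPoint Y)) b, h0]; rfl⟩
  · rw [hadd S hS h1 h2 h3, hp1 h1, hp3 h3, gRank_shortExact hS h1 h2, Nat.cast_add, add_mul]
  · by_cases hξ : ξ = genericPoint Y
    · subst hξ
      have hO : IsPiece (genericPoint Y) ((Scheme.Modules.pushforward (𝟙 Y)).obj (Coh.structureModule Y)) :=
        isPiece_pushUnit (𝟙 Y)
      rw [eq_of_common hadd hQ hO hsm, hiso _ _ ⟨hc⟩]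
      have h1 : gRank (genericPoint Y) Q = 1 := by
        haveI := hQ.simple
        let K := Y.functionField
        letI : Module K (Q.presheaf.stalk (genericPoint Y)) :=
          inferInstanceAs (Module (Y.presheaf.stalk (genericPoint Y)) (Q.presheaf.stalk (genericPoint Y)))
        haveI : IsSimpleModule K (Q.presheaf.stalk (genericPoint Y)) := hQ.simple
        exact (isSimpleModule_iff_finrank_eq_one (R := K)).1 inferInstance
      rw [h1, Nat.cast_one, one_mul]
    · have h0 : genericPoint Y ∉ CohB1.support Q := fun h =>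
        hξ ((hQ.supp _ h).antisymm ((genericPoint_spec Y).specializes trivial)).eq
      rw [gRank_eq_zero h0, Nat.cast_zero, zero_mul]
      exact hsm Q hQ.coh (fun y _ => (genericPoint_spec Y).specializes trivial) h0

end Generic

variable (k : Type u) [Field k] {Y X P P' : Scheme.{u}} [Y.Over (Spec (CommRingCat.of k))]
  [X.Over (Spec (CommRingCat.of k))] [P.Over (Spec (CommRingCat.of k))] [P'.Over (Spec (CommRingCat.of k))]
  [IsProper (Y ↘ Spec (CommRingCat.of k))] [IsProper (X ↘ Spec (CommRingCat.of k))]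
  [IsProper (P ↘ Spec (CommRingCat.of k))]

/-- Euler characteristic of the base change by a finite algebra. -/
theorem euler_base_algebra (A : Type u) [CommRing A] [Algebra k A] [Module.Finite k A] (f' : P' ⟶ P)
    (c : P' ⟶ Spec (CommRingCat.of A))
    (sq : IsPullback f' c (P ↘ Spec (CommRingCat.of k)) (Spec.map (CommRingCat.ofHom (algebraMap k A))))
    (hP' : f' ≫ (P ↘ Spec (CommRingCat.of k)) = P' ↘ Spec (CommRingCat.of k))
    {M : P.Modules} (hM : Coh.IsCoh M) :
    Curv2.euler k P' ((Scheme.Modules.pullback f').obj M) = Module.finrank k A * Curv2.euler k P M := by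
  haveI := EulerIneqLib.isNoetherian_proper (X := P) k
  haveI : Coh.IsQCoh M := hM.1
  haveI : QuasiSeparatedSpace P := inferInstance
  let a : k ≃+* Γ(Spec (CommRingCat.of k), ⊤) :=
    (Scheme.ΓSpecIso (CommRingCat.of k)).symm.commRingCatIsoToRingEquiv
  let b : A ≃+* Γ(Spec (CommRingCat.of A), ⊤) :=
    (Scheme.ΓSpecIso (CommRingCat.of A)).symm.commRingCatIsoToRingEquiv
  unfold Curv2.euler
  rw [mul_finsum]
  refine finsum_congr fun i => ?_
  obtain ⟨e⟩ := FlatBC.nonempty_affine sq M a b
    (fun x => (congr($(Scheme.ΓSpecIso_inv_naturality (CommRingCat.ofHom (algebraMap k A))) x)).symm) i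
  letI : Module A (Coh.HH P' (FlatBC.gM f' M) i) := Module.compHom _ (FlatBC.globalHom c b)
  haveI : IsScalarTower k A (Coh.HH P' ((Scheme.Modules.pullback f').obj M) i) := ⟨fun r s x => by
    show FlatBC.globalHom c b (r • s) • x = Coh.toGlobal (P' ↘ Spec (CommRingCat.of k)) r • (FlatBC.globalHom c b s • x)
    rw [Algebra.smul_def, map_mul, mul_smul]
    congr 1
    show c.appTop ((Scheme.ΓSpecIso (CommRingCat.of A)).inv (algebraMap k A r)) = _
    rw [← hP', ← sq.w.symm]
    refine (congrArg c.appTop (congr($(Scheme.ΓSpecIso_inv_naturality (CommRingCat.ofHom (algebraMap k A))) r))).trans ?_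
    rfl⟩
  have h : Module.finrank k (Coh.HH P' ((Scheme.Modules.pullback f').obj M) i) =
      Module.finrank k A * Module.finrank k (Coh.HH P M i) :=
    ((e.restrictScalars k).finrank_eq.symm).trans (Module.finrank_tensorProduct (R := k))
  rw [h]
  push_cast
  ring

variable {f : X ⟶ Y} {π : P ⟶ Y} {f' : P' ⟶ P} {π' : P' ⟶ X}

/-- If `f` becomes a constant finite family after a finite flat surjective base change, then it
multiplies Euler characteristics by its degree. -/
theorem euler_pullback_eq [IsFinite f] [Flat f] [IsFinite π] [Flat π]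
    (hf : f ≫ (Y ↘ Spec (CommRingCat.of k)) = X ↘ Spec (CommRingCat.of k))
    (hπ : π ≫ (Y ↘ Spec (CommRingCat.of k)) = P ↘ Spec (CommRingCat.of k))
    (hπ' : π' ≫ (X ↘ Spec (CommRingCat.of k)) = P' ↘ Spec (CommRingCat.of k))
    (sq : IsPullback π' f' f π) (m : ℕ) (hm : 0 < m) (hπm : ∀ y, π.finrank y = m) [Nonempty ↥P]
    (A : Type u) [CommRing A] [Algebra k A] [Module.Finite k A] (c : P' ⟶ Spec (CommRingCat.of A))
    (sqA : IsPullback f' c (P ↘ Spec (CommRingCat.of k)) (Spec.map (CommRingCat.ofHom (algebraMap k A))))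
    (d : ℕ) (hd : ∀ y, f.finrank y = d) {M : Y.Modules} (hM : Coh.IsCoh M) :
    Curv2.euler k X ((Scheme.Modules.pullback f).obj M) = d * Curv2.euler k Y M := by
  haveI := EulerIneqLib.isNoetherian_proper (X := Y) k
  haveI := EulerIneqLib.isNoetherian_proper (X := X) k
  haveI := EulerIneqLib.isNoetherian_proper (X := P) k
  haveI : IsAffineHom π' := MorphismProperty.of_isPullback sq.flip (inferInstanceAs (IsAffineHom π))
  haveI : IsFinite π' := MorphismProperty.of_isPullback sq.flip ‹IsFinite π›
  haveI : IsLocallyNoetherian P' := LocallyOfFiniteType.isLocallyNoetherian π'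
  have hdA : d = Module.finrank k A := by
    let p : P := Classical.arbitrary _
    have h1 := Scheme.Hom.finrank_of_isPullback π' f' f π sq p
    rw [hd] at h1
    haveI : IsFinite (Spec.map (CommRingCat.ofHom (algebraMap k A))) := by
      rw [IsFinite.SpecMap_iff]
      exact RingHom.finite_algebraMap.2 inferInstance
    haveI : Flat (Spec.map (CommRingCat.ofHom (algebraMap k A))) := by
      rw [Flat.SpecMap_iff]
      exact RingHom.flat_algebraMap_iff.2 inferInstance
    rw [← h1, Scheme.Hom.finrank_of_isPullback c f' _ _ sqA.flip p, Scheme.Hom.finrank_SpecMap_algebraMap,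
      Module.rankAtStalk_eq_finrank_of_free]
    rfl
  let ψ : Y.Modules → ℤ := fun G => Curv2.euler k X ((Scheme.Modules.pullback f).obj G) - d * Curv2.euler k Y G
  suffices ψ M = 0 by simpa [ψ, sub_eq_zero] using this
  have hiso : ∀ M N : Y.Modules, Nonempty (M ≅ N) → ψ M = ψ N := fun M N ⟨e⟩ => by
    simp only [ψ]
    rw [CurveLib.euler_iso e, CurveLib.euler_iso ((Scheme.Modules.pullback f).mapIso e)]
  have hadd : Additive ψ := fun S hS h1 h2 h3 => by
    haveI := EtAlgEasy.PrinPartFlat.preservesFiniteLimits_pullback_of_flat f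
    have h := CurveLib.euler_shortExact (K := k) (hS.map_of_exact (Scheme.Modules.pullback f))
      (isCoh_pullback _ _ h1) (isCoh_pullback _ _ h2) (isCoh_pullback _ _ h3)
    simp only [ψ]
    rw [CurveLib.euler_shortExact (K := k) hS h1 h2 h3]
    simp only [ShortComplex.map_X₁, ShortComplex.map_X₂, ShortComplex.map_X₃] at h
    rw [h]
    ring
  -- the invariant vanishes on direct images from the cover
  have hvan : ∀ N : P.Modules, Coh.IsCoh N → ψ ((Scheme.Modules.pushforward π).obj N) = 0 := fun N hN => by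
    haveI : Coh.IsQCoh N := hN.1
    haveI : Coh.IsQCoh ((Scheme.Modules.pullback f').obj N) := PullbackMod.isQCoh_pullback f' N
    haveI := Groth.Agent.S12131.result π f f' π' sq.flip N
    let e := asIso (((Scheme.Modules.pullbackPushforwardAdjunction f).homEquiv ((Scheme.Modules.pushforward π).obj N)
        ((Scheme.Modules.pushforward π').obj ((Scheme.Modules.pullback f').obj N))).symm
      ((Scheme.Modules.pushforward π).map ((Scheme.Modules.pullbackPushforwardAdjunction f').unit.app N) ≫
        (Scheme.Modules.pushforwardComp f' π).hom.app ((Scheme.Modules.pullback f').obj N) ≫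
        (Scheme.Modules.pushforwardCongr sq.flip.w).hom.app ((Scheme.Modules.pullback f').obj N) ≫
        (Scheme.Modules.pushforwardComp π' f).inv.app ((Scheme.Modules.pullback f').obj N)))
    simp only [ψ]
    rw [CurveLib.euler_iso (K := k) e, IntLib.euler_push k π' hπ', IntLib.euler_push k π hπ,
      euler_base_algebra k A f' c sqA (by rw [← hπ, ← Category.assoc, ← sq.w, Category.assoc, hf, hπ']) hN, hdA]
    ring
  refine devissage Set.univ (fun N => Coh.IsCoh N → ψ N = 0) (fun N N' ⟨e⟩ hN hN' => ?_)
    (fun N hN hN' => eq_zero_of_isZero hadd hiso hN hN')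
    (fun S hS h1 h2 h3 _ hp1 hp3 _ => by rw [hadd S hS h1 h2 h3, hp1 h1, hp3 h3, add_zero])
    (fun ξ _ _ Q hQ hsm _ => ?_) M hM (Set.subset_univ _) hM
  · exact (hiso N N' ⟨e⟩).symm.trans (hN (Groth.Agent.ProjCoh.isCoh_of_iso e.symm hN'))
  obtain ⟨Z, i, hi, hZ, -, hiξ⟩ := exists_integral_closed ξ
  haveI := hi
  haveI := hZ
  subst hiξ
  haveI : IsLocallyNoetherian Z := LocallyOfFiniteType.isLocallyNoetherian i
  haveI : CompactSpace Z := QuasiCompact.compactSpace_of_compactSpace i
  haveI : IsNoetherian Z := ⟨⟩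
  let ξ := i (genericPoint Z)
  have hsm' : SmallerOK (fun M => ψ M = 0) ξ := fun N hN h h' => hsm N hN h h' hN
  rw [eq_of_common hadd hQ (isPiece_pushUnit i) hsm']
  let ψZ : Z.Modules → ℤ := fun N => ψ ((Scheme.Modules.pushforward i).obj N)
  have hisoZ : ∀ M N : Z.Modules, Nonempty (M ≅ N) → ψZ M = ψZ N := fun M N ⟨e⟩ =>
    hiso _ _ ⟨(Scheme.Modules.pushforward i).mapIso e⟩
  have haddZ : Additive ψZ := fun S hS h1 h2 h3 => by
    haveI := hS.epi_g
    haveI := hS.mono_f
    have hS' : (S.map (Scheme.Modules.pushforward i)).ShortExact :=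
      { exact := hS.exact.map_of_mono_of_preservesKernel (Scheme.Modules.pushforward i) hS.mono_f inferInstance
        mono_f := inferInstanceAs (Mono ((Scheme.Modules.pushforward i).map S.f))
        epi_g := inferInstanceAs (Epi ((Scheme.Modules.pushforward i).map S.g)) }
    exact hadd (S.map (Scheme.Modules.pushforward i)) hS'
      (isCoh_pushforward_closed i h1) (isCoh_pushforward_closed i h2) (isCoh_pushforward_closed i h3)
  have hsmZ : SmallerOK (fun M => ψZ M = 0) (genericPoint Z) := fun N hN _ h' => by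
    refine hsm' _ (isCoh_pushforward_closed i hN) (fun y hy => specializes_of_mem_range i
      (by_contra fun h => hy (subsingleton_stalk_pushforward i _ y h))) fun h => h' fun hs => h ?_
    exact (bijective_pushStalk i N (genericPoint Z)).1.subsingleton
  let gπ : pullback π i ⟶ P := pullback.fst π i
  let πZ : pullback π i ⟶ Z := pullback.snd π i
  haveI : IsLocallyNoetherian (pullback π i) := LocallyOfFiniteType.isLocallyNoetherian πZ
  haveI : IsClosedImmersion gπ := inferInstanceAs (IsClosedImmersion (pullback.fst π i))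
  haveI : IsFinite πZ := inferInstanceAs (IsFinite (pullback.snd π i))
  haveI : Flat πZ := inferInstanceAs (Flat (pullback.snd π i))
  let O := Coh.structureModule (pullback π i)
  have h0 : ψZ ((Scheme.Modules.pushforward πZ).obj O) = 0 := by
    have e : (Scheme.Modules.pushforward i).obj ((Scheme.Modules.pushforward πZ).obj O) ≅
        (Scheme.Modules.pushforward π).obj ((Scheme.Modules.pushforward gπ).obj O) :=
      (Scheme.Modules.pushforwardComp πZ i).app O ≪≫
        (Scheme.Modules.pushforwardCongr pullback.condition.symm).app O ≪≫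
        ((Scheme.Modules.pushforwardComp gπ π).app O).symm
    exact (hiso _ _ ⟨e⟩).trans (hvan _ (isCoh_pushforward_closed gπ (DevLib.isCoh_structureModule _)))
  have hcov : FinCov.IsCover πZ m :=
    ⟨⟨inferInstance, inferInstance, inferInstance⟩, fun z =>
      (Scheme.Hom.finrank_pullback_snd π i z).trans (hπm _)⟩
  have hfree := ((FinCovLib.isCover_iff πZ m).1 hcov).2
  have hc : Coh.IsCoh ((Scheme.Modules.pushforward πZ).obj O) :=
    CurveLib.isCoh_of_isFinLocFree fun z => by obtain ⟨U, hz, e⟩ := hfree z; exact ⟨U, m, hz, e⟩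
  have hr : gRank (genericPoint Z) ((Scheme.Modules.pushforward πZ).obj O) = m := by
    obtain ⟨U, hz, ⟨e⟩⟩ := hfree (genericPoint Z)
    haveI : Coh.IsQCoh ((Scheme.Modules.pushforward πZ).obj O) := hc.1
    obtain ⟨l⟩ := PullbackMod.freeAt_of_restrict_iso _ e hz
    exact l.finrank_eq.trans (Module.finrank_fin_fun _)
  rw [eq_rank_mul haddZ hisoZ hsmZ hc, hr] at h0
  exact (mul_eq_zero.1 h0).resolve_left (Nat.cast_ne_zero.2 hm.ne')

end Groth.Agent.EulerPullLib
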